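import Groth.Agent.Grpsch.PicGrp
import Groth.Agent.Pic13.H520.DisjPic
import Groth.Agent.Ega1.GenPts
import Groth.Agent.Sga3C.LocConn
import Groth.Prelude.Def_Pi1

/-!
# Torsion classes on a Noetherian normal scheme are detected on the integral clopen pieces

A Noetherian scheme whose local rings are domains is the finite disjoint union of its connected components, which are
open, closed and integral; a class of invertible modules which is torsion on every component is torsion.
-/

set_option autoImplicit false
universe u

open CategoryTheory CategoryTheory.Limits AlgebraicGeometry TopologicalSpace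
open Groth.Agent.Grpsch

namespace K870.GlueTors

/-- The connected components of a locally Noetherian scheme, as opens. -/
noncomputable def comp (X : Scheme.{u}) [IsLocallyNoetherian X] (c : ConnectedComponents X) : X.Opens :=
  ⟨ConnectedComponents.mk ⁻¹' {c}, by
    have := Groth.Agent.Sga3C.LocConn.locallyConnectedSpace_of_isLocallyNoetherian X
    obtain ⟨x, rfl⟩ := ConnectedComponents.surjective_coe c
    rw [connectedComponents_preimage_singleton]
    exact isOpen_connectedComponent⟩

variable {X : Scheme.{u}} [IsLocallyNoetherian X]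

theorem isClopen_comp (c : ConnectedComponents X) : IsClopen (comp X c : Set X) := by
  refine ⟨?_, (comp X c).2⟩
  obtain ⟨x, rfl⟩ := ConnectedComponents.surjective_coe c
  change IsClosed (ConnectedComponents.mk ⁻¹' {ConnectedComponents.mk x})
  rw [connectedComponents_preimage_singleton]
  exact isClosed_connectedComponent

theorem disjoint_comp (c c' : ConnectedComponents X) (h : c ≠ c') :
    Disjoint (comp X c : Set X) (comp X c') := by
  rw [Set.disjoint_left]
  intro x hx hx'
  exact h (hx.symm.trans hx')

theorem isIntegral_comp (hdom : ∀ x : X, IsDomain (X.presheaf.stalk x))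
    (c : ConnectedComponents X) : IsIntegral (comp X c : Scheme.{u}) := by
  rw [Groth.Agent.Ega1.GenPts.isIntegral_iff]
  refine ⟨?_, fun x => ?_⟩
  · obtain ⟨x, rfl⟩ := ConnectedComponents.surjective_coe c
    have h1 : _root_.IsConnected (comp X (ConnectedComponents.mk x) : Set X) := by
      have h2 : (comp X (ConnectedComponents.mk x) : Set X) = connectedComponent x :=
        connectedComponents_preimage_singleton
      rw [h2]
      exact isConnected_connectedComponent
    exact isConnected_iff_connectedSpace.1 h1
  · have := hdom ((comp X c).ι x)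
    exact (asIso ((comp X c).ι.stalkMap x)).commRingCatIsoToRingEquiv.symm.toMulEquiv.isDomain _

/-- Domain stalks suffice. -/
theorem exists_pow_of_clopen' {S : Scheme.{u}} [IsNoetherian S] (hS : ∀ x : S, IsDomain (S.presheaf.stalk x))
    (c : PicGrp.Pic S)
    (h : ∀ U : S.Opens, IsClopen (U : Set S) → IsIntegral (U : Scheme.{u}) →
      ∃ n : ℕ, 1 ≤ n ∧ PicGrp.pull U.ι c ^ n = 1) : ∃ n : ℕ, 1 ≤ n ∧ c ^ n = 1 := by
  classical
  have := Groth.Agent.Sga3C.LocConn.locallyConnectedSpace_of_isLocallyNoetherian S
  have hfin : Finite (ConnectedComponents S) := inferInstance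
  have := Fintype.ofFinite (ConnectedComponents S)
  choose n hn hc using fun a : ConnectedComponents S => h (comp S a) (isClopen_comp a) (isIntegral_comp hS a)
  refine ⟨∏ a, n a, Nat.one_le_iff_ne_zero.2 (Finset.prod_ne_zero_iff.2 fun a _ => by have := hn a; omega), ?_⟩
  refine Groth.Agent.Pic13.H520.DisjPic.eq_one_of_disjoint (fun a => (comp S a : Scheme.{u}))
    (fun a => (comp S a).ι) ?_ ?_ _ fun a => ?_
  · intro a b hab
    rw [Scheme.Opens.range_ι, Scheme.Opens.range_ι]
    exact disjoint_comp a b hab
  · intro x
    refine ⟨ConnectedComponents.mk x, ?_⟩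
    rw [Scheme.Opens.range_ι]
    exact rfl
  · obtain ⟨m, hm⟩ := Finset.dvd_prod_of_mem n (Finset.mem_univ a)
    rw [map_pow, hm, pow_mul, hc, one_pow]

/-- Torsion on the integral clopen subschemes implies torsion. -/
theorem exists_pow_of_clopen {S : Scheme.{u}} [IsNoetherian S] (hS : Pi1.IsNormalScheme S) (c : PicGrp.Pic S)
    (h : ∀ U : S.Opens, IsClopen (U : Set S) → IsIntegral (U : Scheme.{u}) →
      ∃ n : ℕ, 1 ≤ n ∧ PicGrp.pull U.ι c ^ n = 1) : ∃ n : ℕ, 1 ≤ n ∧ c ^ n = 1 :=
  exists_pow_of_clopen' (fun x => (hS x).1) c h

end K870.GlueTors
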